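import Groth.Agent.H20Comod.OrbitPrimes
import Groth.Agent.H19Grp.HopfReduced
import Groth.Agent.H19Grp.AlgClosedGeom
import Groth.Agent.H28Neron.UnitClasses
import Mathlib

/-!
# Connected group varieties: domains, and Rosenlicht's theorem on units

For a reduced finitely generated commutative Hopf algebra over an algebraically closed field: absence of
idempotents gives a domain; and in a domain every unit with counit one is group-like.
-/

set_option autoImplicit false
set_option linter.style.haveILetI false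

universe u v w

open TensorProduct

namespace Groth.Agent.H20Hopf.Rosenlicht

noncomputable section

variable {k : Type u} [Field k] [IsAlgClosed k]

/-- rational points separate functions on a reduced variety -/
theorem point_ext {A : Type v} [CommRing A] [Algebra k A] [Algebra.FiniteType k A] [IsReduced A] {a : A}
    (h : ∀ φ : A →ₐ[k] k, φ a = 0) : a = 0 := by
  have hn : a ∈ nilradical A := by
    rw [nilradical_eq_sInf, Ideal.mem_sInf]
    intro q hq
    haveI : q.IsPrime := hq
    by_contra haq
    obtain ⟨z, -, hz⟩ := H20Comod.OrbitPrimes.exists_point_notMem (k := k) q haq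
    exact hz (h z)
  exact IsNilpotent.eq_zero (mem_nilradical.1 hn)

/-- rational points separate tensors in the first factor -/
theorem tensor_ext {A : Type v} [CommRing A] [Algebra k A] [Algebra.FiniteType k A] [IsReduced A]
    {B : Type w} [AddCommGroup B] [Module k B] {z : A ⊗[k] B}
    (h : ∀ φ : A →ₐ[k] k, TensorProduct.lid k B (φ.toLinearMap.rTensor B z) = 0) : z = 0 := by
  classical
  let b := Module.Free.chooseBasis k B
  let e := TensorProduct.equivFinsuppOfBasisRight (M := A) b
  have key : ∀ (φ : A →ₐ[k] k) (w : A ⊗[k] B) i,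
      b.repr (TensorProduct.lid k B (φ.toLinearMap.rTensor B w)) i = φ (e w i) := by
    intro φ w i
    induction w using TensorProduct.induction_on with
    | zero => simp
    | tmul p q => simp [e, mul_comm]
    | add p q hp hq => simp only [map_add, Finsupp.coe_add, Pi.add_apply, hp, hq]
  have hez : e z = 0 := Finsupp.ext fun i => point_ext fun φ => by
    rw [← key φ z i, h φ, map_zero]; rfl
  exact e.map_eq_zero_iff.1 hez

variable {A : Type v} [CommRing A] [HopfAlgebra k A] [Algebra.FiniteType k A]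

omit [IsAlgClosed k] [Algebra.FiniteType k A] in
open H19Grp.HopfReduced in
/-- Translations move any rational point to any other one. -/
theorem exists_translation (y z : A →ₐ[k] k) :
    ∃ e : A →ₐ[k] A, Function.Bijective e ∧ y.comp e = z := by
  let h := y.comp (HopfAlgebra.antipodeAlgHom k A)
  let g := (WithConv.toConv z * WithConv.toConv h).ofConv
  have hb : ∀ g : A →ₐ[k] k, Function.Bijective (T g) := fun g => by
    obtain ⟨h1, h2⟩ := T_antipode g
    exact Function.bijective_iff_has_inverse.2
      ⟨T (g.comp (HopfAlgebra.antipodeAlgHom k A)), fun a => AlgHom.congr_fun h2 a, fun a => AlgHom.congr_fun h1 a⟩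
  refine ⟨T g, hb g, AlgHom.ext fun a => ?_⟩
  have hg : T g = (T h).comp (T z) := (T_comp h z).symm
  rw [AlgHom.comp_apply, ← counit_T y (T g a), hg]
  show Coalgebra.counit (R := k) (T y (T h (T z a))) = z a
  rw [show T y (T h (T z a)) = T z a from AlgHom.congr_fun (T_antipode y).1 (T z a)]
  exact counit_T z a

variable (k) in
include k in
/-- A connected group variety is irreducible. -/
theorem isDomain [IsReduced A] (hconn : ∀ e : A, IsIdempotentElem e → e = 0 ∨ e = 1) : IsDomain A := by
  classical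
  haveI : Nontrivial A := (Bialgebra.counitAlgHom k A).toRingHom.domain_nontrivial
  haveI : IsNoetherianRing A := Algebra.FiniteType.isNoetherianRing k A
  have hfin := minimalPrimes.finite_of_isNoetherianRing A
  have huniq : ∀ q₁ ∈ minimalPrimes A, ∀ q₂ ∈ minimalPrimes A, ∀ y : A →ₐ[k] k,
      q₁ ≤ RingHom.ker y → q₂ ≤ RingHom.ker y → q₁ = q₂ := by
    intro q₁ h₁ q₂ h₂ y hy₁ hy₂
    obtain ⟨z, -, hz⟩ := H20Comod.OrbitPrimes.exists_point_only (k := k) h₁
    obtain ⟨e, he, hey⟩ := exists_translation y z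
    have hmove : ∀ q ∈ minimalPrimes A, q ≤ RingHom.ker y → q.comap e = q₁ := fun q hq hqy =>
      hz _ (H20Comod.OrbitPrimes.comap_minimalPrimes he hq) fun a ha => by
        rw [← hey]
        exact hqy ha
    have hs : Function.Injective (Ideal.comap e : Ideal A → Ideal A) :=
      Ideal.comap_injective_of_surjective e he.2
    exact hs ((hmove q₁ h₁ hy₁).trans (hmove q₂ h₂ hy₂).symm)
  obtain ⟨q₁, h₁, -⟩ := Ideal.exists_minimalPrimes_le (I := (⊥ : Ideal A))
    (J := RingHom.ker (Bialgebra.counitAlgHom k A)) bot_le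
  have hcop : ∀ q ∈ minimalPrimes A, ∃ a : A, q ≠ q₁ → a ∈ q ∧ 1 - a ∈ q₁ := by
    intro q hq
    by_cases hne : q = q₁
    · exact ⟨0, fun h => (h hne).elim⟩
    have htop : q ⊔ q₁ = ⊤ := by
      by_contra hlt
      obtain ⟨y, hy⟩ := H20Comod.exists_point_le_ker (k := k) hlt
      exact hne (huniq q hq q₁ h₁ y (le_sup_left.trans hy) (le_sup_right.trans hy))
    obtain ⟨a, ha, b, hb, hab⟩ := Submodule.mem_sup.1 (htop ▸ Submodule.mem_top : (1 : A) ∈ q ⊔ q₁)
    exact ⟨a, fun _ => ⟨ha, by rwa [← hab, add_sub_cancel_left]⟩⟩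
  choose! a ha using hcop
  let S := hfin.toFinset.erase q₁
  let e := ∏ q ∈ S, a q
  have hS : ∀ q, q ∈ S ↔ q ≠ q₁ ∧ q ∈ minimalPrimes A := fun q => by
    rw [Finset.mem_erase, Set.Finite.mem_toFinset]
  have he1 : 1 - e ∈ q₁ := by
    rw [← Ideal.Quotient.eq_zero_iff_mem, map_sub, map_one, map_prod, sub_eq_zero, eq_comm]
    refine Finset.prod_eq_one fun q hq => ?_
    obtain ⟨hne, hqm⟩ := (hS q).1 hq
    rw [← (Ideal.Quotient.mk q₁).map_one, eq_comm, Ideal.Quotient.eq]
    exact (ha q hqm hne).2
  have heq : ∀ q ∈ minimalPrimes A, q ≠ q₁ → e ∈ q := fun q hq hne =>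
    Ideal.mem_of_dvd _ (Finset.dvd_prod_of_mem a ((hS q).2 ⟨hne, hq⟩)) (ha q hq hne).1
  have hidem : IsIdempotentElem e := by
    have h : e * (1 - e) ∈ sInf (minimalPrimes A) := Ideal.mem_sInf.2 fun {q} hq => by
      by_cases hne : q = q₁
      · exact hne ▸ q₁.mul_mem_left e he1
      · exact q.mul_mem_right _ (heq q hq hne)
    rw [show minimalPrimes A = (⊥ : Ideal A).minimalPrimes from rfl, Ideal.sInf_minimalPrimes] at h
    obtain ⟨n, hn⟩ := h
    have h0 := IsReduced.eq_zero _ ⟨n, hn⟩
    rw [mul_sub, mul_one, sub_eq_zero] at h0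
    exact h0.symm
  have h1 : e = 1 := (hconn e hidem).resolve_left fun h0 => by
    rw [h0, sub_zero] at he1
    exact h₁.1.1.ne_top ((Ideal.eq_top_iff_one q₁).2 he1)
  have hall : ∀ q ∈ minimalPrimes A, q = q₁ := fun q hq => by_contra fun hne =>
    hq.1.1.ne_top ((Ideal.eq_top_iff_one q).2 (h1 ▸ heq q hq hne))
  have hbot : q₁ = ⊥ := eq_bot_iff.2 fun x hx => by
    have h : x ∈ sInf (minimalPrimes A) := Ideal.mem_sInf.2 fun {q} hq => (hall q hq).symm ▸ hx
    rw [show minimalPrimes A = (⊥ : Ideal A).minimalPrimes from rfl, Ideal.sInf_minimalPrimes] at h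
    obtain ⟨n, hn⟩ := h
    exact Ideal.mem_bot.2 (IsReduced.eq_zero _ ⟨n, hn⟩)
  haveI : (⊥ : Ideal A).IsPrime := hbot ▸ h₁.1.1
  exact IsDomain.of_bot_isPrime A

/-- Units in a finite-dimensional subspace of a finitely generated domain form finitely many classes
modulo scalars (any universe). -/
theorem finite_classes {B : Type v} [CommRing B] [IsDomain B] [Algebra k B] [Algebra.FiniteType k B]
    (V : Submodule k B) [FiniteDimensional k V] :
    ∃ S : Set B, S.Finite ∧ ∀ h ∈ V, IsUnit h → ∃ s ∈ S, ∃ c : k, h = c • s := by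
  haveI : Small.{u} B := by
    obtain ⟨n, f, hf⟩ := (Algebra.FiniteType.iff_quotient_mvPolynomial'' (R := k) (S := B)).1 inferInstance
    exact small_of_surjective hf
  let E : Shrink.{u} B ≃ₐ[k] B := Shrink.algEquiv k B
  haveI : IsDomain (Shrink.{u} B) := MulEquiv.isDomain B E.toMulEquiv
  haveI : Algebra.FiniteType k (Shrink.{u} B) := Algebra.FiniteType.equiv inferInstance E.symm
  let V' : Submodule k (Shrink.{u} B) := V.map (E.symm.toLinearEquiv : B →ₗ[k] Shrink.{u} B)
  haveI : FiniteDimensional k V' := Module.Finite.map V _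
  obtain ⟨S, hS, hS'⟩ := H28Neron.UnitClasses.finite_classes V'
  refine ⟨E '' S, hS.image _, fun h hh hu => ?_⟩
  obtain ⟨s, hs, c, hc⟩ := hS' (E.symm h) (Submodule.mem_map_of_mem hh) (hu.map E.symm)
  exact ⟨E s, ⟨s, hs, rfl⟩, c, by rw [← map_smul, ← hc, AlgEquiv.apply_symm_apply]⟩

open H19Grp.HopfReduced in
/-- **Rosenlicht**: on a connected group variety a unit with value one at the origin is a character. -/
theorem isGroupLikeElem_of_isUnit [IsDomain A] {u : A} (hu : IsUnit u)
    (h1 : Coalgebra.counit (R := k) u = 1) : IsGroupLikeElem k u := by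
  classical
  let R := Coalgebra.Repr.arbitrary k u
  let V : Submodule k A := Submodule.span k (↑(R.index.image R.right) : Set A)
  haveI : FiniteDimensional k V := FiniteDimensional.span_finset k _
  have hTV : ∀ g : A →ₐ[k] k, T g u ∈ V := fun g => by
    rw [T_repr g R]
    exact Submodule.sum_mem _ fun i hi => Submodule.smul_mem _ _
      (Submodule.subset_span (Finset.mem_image_of_mem _ hi))
  obtain ⟨S, hS, hS'⟩ := finite_classes V
  let b := Module.Free.chooseBasis k A
  let e := TensorProduct.equivFinsuppOfBasisRight (M := A) b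
  -- the translates proportional to `s` are cut out by the functions `F s i j`
  let F : A → _ → _ → A := fun s i j =>
    e (Coalgebra.comul (R := k) u) i * algebraMap k A (b.repr s j) -
      e (Coalgebra.comul (R := k) u) j * algebraMap k A (b.repr s i)
  have hco : ∀ (g : A →ₐ[k] k) i, b.repr (T g u) i = g (e (Coalgebra.comul (R := k) u) i) := by
    intro g i
    rw [T_apply]
    generalize Coalgebra.comul (R := k) u = z
    induction z using TensorProduct.induction_on with
    | zero => simp
    | tmul p q => simp [e, mul_comm]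
    | add p q hp hq => simp only [map_add, Finsupp.coe_add, Pi.add_apply, hp, hq]
  have hF : ∀ (s : A) (g : A →ₐ[k] k), (∃ c : k, T g u = c • s) → ∀ i j, g (F s i j) = 0 := by
    rintro s g ⟨c, hc⟩ i j
    simp only [F, map_sub, map_mul, AlgHom.commutes, Algebra.algebraMap_self, RingHom.id_apply, ← hco, hc,
      map_smul, Finsupp.smul_apply, smul_eq_mul]
    ring
  have hex : ∃ s ∈ S, s ≠ 0 ∧ ∀ i j, F s i j = 0 := by
    by_contra hcon
    push Not at hcon
    choose! i j hij using hcon
    obtain ⟨g, hg⟩ := H19Grp.exists_algHom_ne_zero (k := k)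
      (Finset.prod_ne_zero_iff.2 fun s (hs : s ∈ hS.toFinset.erase 0) =>
        hij s (hS.mem_toFinset.1 (Finset.mem_of_mem_erase hs)) (Finset.ne_of_mem_erase hs))
    obtain ⟨s, hs, c, hc⟩ := hS' _ (hTV g) (hu.map (T g))
    have hs0 : s ≠ 0 := fun h => (hu.map (T g)).ne_zero (by rw [hc, h, smul_zero])
    rw [map_prod] at hg
    exact hg (Finset.prod_eq_zero (Finset.mem_erase.2 ⟨hs0, hS.mem_toFinset.2 hs⟩) (hF s g ⟨c, hc⟩ _ _))
  obtain ⟨s, -, hs0, hs⟩ := hex
  have hprop : ∀ (g : A →ₐ[k] k) i j, b.repr (T g u) i * b.repr s j = b.repr (T g u) j * b.repr s i := by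
    intro g i j
    have h := congrArg g (hs i j)
    simp only [F, map_sub, map_mul, AlgHom.commutes, Algebra.algebraMap_self, RingHom.id_apply, ← hco, map_zero,
      sub_eq_zero] at h
    exact h
  obtain ⟨j, hj⟩ : ∃ j, b.repr s j ≠ 0 := by
    by_contra hall
    push Not at hall
    exact hs0 (b.repr.map_eq_zero_iff.1 (Finsupp.ext hall))
  have hmul : ∀ g : A →ₐ[k] k, ∃ c : k, T g u = c • s := fun g =>
    ⟨b.repr (T g u) j / b.repr s j, b.repr.injective (Finsupp.ext fun i => by
      rw [map_smul, Finsupp.smul_apply, smul_eq_mul, div_mul_eq_mul_div, eq_div_iff hj, hprop g i j])⟩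
  have hT : ∀ g : A →ₐ[k] k, T g u = g u • u := by
    intro g
    obtain ⟨c, hc⟩ := hmul g
    obtain ⟨d, hd⟩ := hmul (Bialgebra.counitAlgHom k A)
    rw [T_one, AlgHom.id_apply] at hd
    have hd0 : d ≠ 0 := fun h => hu.ne_zero (by rw [hd, h, zero_smul])
    have hs' : s = d⁻¹ • u := by rw [hd, inv_smul_smul₀ hd0]
    rw [hs', smul_smul] at hc
    have := congrArg (Coalgebra.counit (R := k)) hc
    rw [counit_T, map_smul, h1, smul_eq_mul, mul_one] at this
    rw [hc, this]
  refine ⟨h1, sub_eq_zero.1 (tensor_ext fun g => ?_)⟩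
  rw [map_sub, map_sub, ← T_apply, hT g]
  simp

end

end Groth.Agent.H20Hopf.Rosenlicht
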