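import Mathlib
import Groth.Agent.H20Hopf.ConnComp

/-!
Kernels of faithfully flat homomorphisms of finite group schemes and connected components.
-/

set_option autoImplicit false

universe u

open TensorProduct IsLocalRing

namespace Groth.Agent.H20Hopf.ExtConn

noncomputable section

variable {R : Type u} [CommRing R]

/-- An unramified finite local algebra with a section is the base ring. -/
theorem algebraMap_section_eq {B : Type u} [CommRing B] [Algebra R B] [IsLocalRing B] [IsNoetherianRing B]
    [Algebra.FormallyUnramified R B] [IsLocalRing R] (ε : B →ₐ[R] R) (b : B) : algebraMap R B (ε b) = b := by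
  have h : (Algebra.ofId R B).comp ε = AlgHom.id R B := by
    refine Algebra.FormallyUnramified.ext_of_iInf (I := maximalIdeal B)
      (Ideal.iInf_pow_eq_bot_of_isLocalRing _ (maximalIdeal.isMaximal _).ne_top) fun x => ?_
    rw [Ideal.Quotient.eq]
    refine (eq_maximalIdeal (ConnComp.ker_residue_comp_isMaximal ε)).le ?_
    show residue R (ε (algebraMap R B (ε x) - x)) = 0
    rw [map_sub, ε.commutes, Algebra.algebraMap_self, RingHom.id_apply, sub_self, map_zero]
  exact AlgHom.congr_fun h b

/-- The augmentation of an unramified algebra is idempotent. -/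
theorem sub_section_mem_sq {B : Type u} [CommRing B] [Algebra R B] [Algebra.FormallyUnramified R B]
    (ε : B →ₐ[R] R) (b : B) : b - algebraMap R B (ε b) ∈ RingHom.ker ε ^ 2 := by
  let K : Ideal B := RingHom.ker ε
  let I : Ideal (B ⧸ K ^ 2) := K.map (Ideal.Quotient.mk (K ^ 2))
  have hI : IsNilpotent I := ⟨2, by rw [← Ideal.map_pow, Ideal.map_quotient_self, Ideal.zero_eq_bot]⟩
  have h : Ideal.Quotient.mkₐ R (K ^ 2) = (Algebra.ofId R (B ⧸ K ^ 2)).comp ε := by
    refine Algebra.FormallyUnramified.lift_unique I hI _ _ (AlgHom.ext fun x => ?_)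
    refine Ideal.Quotient.eq.2 ?_
    show Ideal.Quotient.mk (K ^ 2) x - algebraMap R (B ⧸ K ^ 2) (ε x) ∈ I
    rw [IsScalarTower.algebraMap_apply R B (B ⧸ K ^ 2), Ideal.Quotient.algebraMap_eq, ← map_sub]
    refine Ideal.mem_map_of_mem _ ?_
    show ε (x - algebraMap R B (ε x)) = 0
    rw [map_sub, ε.commutes, Algebra.algebraMap_self, RingHom.id_apply, sub_self]
  rw [← Ideal.Quotient.eq_zero_iff_mem, map_sub, sub_eq_zero]
  exact (AlgHom.congr_fun h b).trans (IsScalarTower.algebraMap_apply R B (B ⧸ K ^ 2) (ε b))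

variable {A A'' : Type u} [CommRing A] [HopfAlgebra R A] [CommRing A''] [HopfAlgebra R A'']
  [Algebra A'' A] [IsScalarTower R A'' A]

/-- The ideal of the kernel. -/
abbrev kerIdeal (R A A'' : Type u) [CommRing R] [CommRing A] [CommRing A''] [HopfAlgebra R A''] [Algebra A'' A] :
    Ideal A :=
  (RingHom.ker (Bialgebra.counitAlgHom R A'')).map (algebraMap A'' A)

theorem counit_eq_zero_of_mem
    (hε : (Bialgebra.counitAlgHom R A).comp (IsScalarTower.toAlgHom R A'' A) = Bialgebra.counitAlgHom R A'')
    {x : A} (hx : x ∈ kerIdeal R A A'') : Bialgebra.counitAlgHom R A x = 0 := by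
  have h : kerIdeal R A A'' ≤ RingHom.ker (Bialgebra.counitAlgHom R A) :=
    Ideal.map_le_iff_le_comap.2 fun b hb => (AlgHom.congr_fun hε b).trans hb
  exact h hx

theorem ker_counit_le_maximalIdeal [IsLocalRing A''] [Nontrivial R] :
    RingHom.ker (Bialgebra.counitAlgHom R A'') ≤ maximalIdeal A'' :=
  IsLocalRing.le_maximalIdeal (RingHom.ker_ne_top _)

/-- The unit component is flat over the base of an extension. -/
theorem flat_component [Module.Flat A'' A] {e : A} (he : IsIdempotentElem e) :
    Module.Flat A'' (A ⧸ Ideal.span ({1 - e} : Set A)) := by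
  let I : Ideal A := Ideal.span {1 - e}
  let s : (A ⧸ I) →ₗ[A''] A := Submodule.liftQ (I.restrictScalars A'') (LinearMap.mulLeft A'' e) fun x hx => by
    obtain ⟨r, rfl⟩ := Ideal.mem_span_singleton'.mp hx
    show e * (r * (1 - e)) = 0
    rw [mul_left_comm, mul_sub, mul_one, he.eq, sub_self, mul_zero]
  refine Module.Flat.of_retract s (Ideal.Quotient.mkₐ A'' I).toLinearMap (LinearMap.ext fun x => ?_)
  obtain ⟨a, rfl⟩ := Ideal.Quotient.mk_surjective x
  show Ideal.Quotient.mk I (e * a) = Ideal.Quotient.mk I a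
  refine Ideal.Quotient.eq.2 (Ideal.mem_span_singleton'.2 ⟨-a, ?_⟩)
  ring

end

end Groth.Agent.H20Hopf.ExtConn
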