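import Mathlib
import Groth.Prelude.Def_CartDual
import Groth.Prelude.Def_CartDual2
import Groth.Agent.H20Hopf.ExtConn

/-!
The connected multiplicative part: invariant forms and transposes.
-/

set_option autoImplicit false

universe u

open TensorProduct

namespace Groth.Agent.H20Hopf.MuPart

noncomputable section

variable {R : Type u} [CommRing R]

/-- A bialgebra map killing a Hopf ideal descends to the quotient. -/
def descend {A C : Type u} [CommRing A] [HopfAlgebra R A] [CommRing C] [HopfAlgebra R C] (I : Ideal A)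
    [I.IsHopfIdeal R] (ψ : A →ₐc[R] C) (h : ∀ x ∈ I, ψ x = 0) : (A ⧸ I) →ₐc[R] C :=
  BialgHom.ofAlgHom (Ideal.Quotient.liftₐ I (ψ : A →ₐ[R] C) h)
    (Ideal.Quotient.algHom_ext R (AlgHom.ext fun a => CoalgHomClass.counit_comp_apply ψ a))
    (Ideal.Quotient.algHom_ext R (AlgHom.ext fun a => by
      show Algebra.TensorProduct.map (Ideal.Quotient.liftₐ I (ψ : A →ₐ[R] C) h) (Ideal.Quotient.liftₐ I (ψ : A →ₐ[R] C) h)
        (CoalgebraStruct.comul (R := R) (Ideal.Quotient.mk I a)) = CoalgebraStruct.comul (R := R) (ψ a)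
      rw [← CoalgHomClass.map_comp_comul_apply ψ a]
      show Algebra.TensorProduct.map _ _ (Algebra.TensorProduct.map (Ideal.Quotient.mkₐ R I) (Ideal.Quotient.mkₐ R I)
        (CoalgebraStruct.comul (R := R) a)) = _
      generalize CoalgebraStruct.comul (R := R) a = z
      induction z using TensorProduct.induction_on with
      | zero => simp
      | tmul x y => rfl
      | add x y hx hy => simp only [map_add, hx, hy]))

theorem descend_mk {A C : Type u} [CommRing A] [HopfAlgebra R A] [CommRing C] [HopfAlgebra R C] (I : Ideal A)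
    [I.IsHopfIdeal R] (ψ : A →ₐc[R] C) (h : ∀ x ∈ I, ψ x = 0) (a : A) :
    descend I ψ h (Ideal.Quotient.mk I a) = ψ a := rfl

/-- A bialgebra map to a local Hopf algebra kills the ideal of the unit component. -/
theorem map_one_sub_eq_zero [Nontrivial R] {A D : Type u} [CommRing A] [HopfAlgebra R A] [CommRing D] [HopfAlgebra R D]
    [IsLocalRing D] (ψ : A →ₐc[R] D) {e : A} (he : IsIdempotentElem e) (hε : Bialgebra.counitAlgHom R A e = 1) :
    ∀ x ∈ Ideal.span ({1 - e} : Set A), ψ x = 0 := by
  intro x hx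
  obtain ⟨r, rfl⟩ := Ideal.mem_span_singleton'.1 hx
  have h1 : ψ e = 1 := ConnComp.eq_one_of_isIdempotent (Bialgebra.counitAlgHom R D).toRingHom (he.map ψ)
    ((CoalgHomClass.counit_comp_apply ψ e).trans hε)
  rw [map_mul, map_sub, map_one, h1, sub_self, mul_zero]

/-- Invariance under the unit component of `X`. -/
def IsInv {X : Type u} [CommRing X] [HopfAlgebra R X] (f x : X) : Prop :=
  LinearMap.lTensor X (LinearMap.mulLeft R f) (Coalgebra.comul (R := R) x) = x ⊗ₜ[R] f

/-- Bialgebra maps respect invariance. -/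
theorem IsInv.map [Nontrivial R] {X Y : Type u} [CommRing X] [HopfAlgebra R X] [CommRing Y] [HopfAlgebra R Y]
    (t : X →ₐc[R] Y) {f x : X} (hx : IsInv (R := R) f x) (hf : IsIdempotentElem f)
    (hfε : Bialgebra.counitAlgHom R X f = 1) {g : Y} (hg : IsIdempotentElem g) (hgε : Bialgebra.counitAlgHom R Y g = 1)
    [IsLocalRing (Y ⧸ Ideal.span ({1 - g} : Set Y))] : IsInv (R := R) g (t x) := by
  let I : Ideal Y := Ideal.span {1 - g}
  have h1 : Ideal.Quotient.mk I (t f) = 1 := by
    refine ConnComp.eq_one_of_isIdempotent (ConnComp.counit0 hgε).toRingHom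
      ((hf.map t).map (Ideal.Quotient.mk I)) ?_
    exact (CoalgHomClass.counit_comp_apply t f).trans hfε
  have h2 : g * t f = g := by
    rw [← map_one (Ideal.Quotient.mk I), Ideal.Quotient.eq] at h1
    obtain ⟨r, hr⟩ := Ideal.mem_span_singleton'.1 h1
    have h0 : g * (t f - 1) = 0 := by
      rw [← hr, mul_left_comm, mul_sub, mul_one, hg.eq, sub_self, mul_zero]
    rwa [mul_sub, mul_one, sub_eq_zero] at h0
  show LinearMap.lTensor Y (LinearMap.mulLeft R g) (Coalgebra.comul (R := R) (t x)) = t x ⊗ₜ[R] g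
  have key : ∀ z : X ⊗[R] X, LinearMap.lTensor Y (LinearMap.mulLeft R g)
      (TensorProduct.map (t : X →ₗ[R] Y) (t : X →ₗ[R] Y) z) = LinearMap.lTensor Y (LinearMap.mulLeft R g)
      (TensorProduct.map (t : X →ₗ[R] Y) (t : X →ₗ[R] Y) (LinearMap.lTensor X (LinearMap.mulLeft R f) z)) := by
    intro z
    induction z using TensorProduct.induction_on with
    | zero => simp
    | tmul a b =>
      show t a ⊗ₜ[R] (g * t b) = t a ⊗ₜ[R] (g * t (f * b))
      rw [map_mul, ← mul_assoc, h2]
    | add a b ha hb => simp only [map_add, ha, hb]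
  rw [← CoalgHomClass.map_comp_comul_apply t x]
  refine (key _).trans ?_
  rw [show LinearMap.lTensor X (LinearMap.mulLeft R f) (Coalgebra.comul (R := R) x) = x ⊗ₜ[R] f from hx]
  show t x ⊗ₜ[R] (g * t f) = _
  rw [h2]

/-- The image of an étale Hopf algebra consists of invariants. -/
theorem isInv_of_etale [HenselianLocalRing R] [IsNoetherianRing R] {X C : Type u} [CommRing X] [HopfAlgebra R X]
    [Module.Finite R X] [CommRing C] [HopfAlgebra R C] [Algebra.Etale R C] (φ : C →ₐc[R] X) {f : X}
    (hf : IsIdempotentElem f) (hfε : Bialgebra.counitAlgHom R X f = 1)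
    [IsLocalRing (X ⧸ Ideal.span ({1 - f} : Set X))] (c : C) : IsInv (R := R) f (φ c) := by
  let I : Ideal X := Ideal.span {1 - f}
  let π : X →ₐ[R] X ⧸ I := Ideal.Quotient.mkₐ R I
  haveI : IsNoetherianRing (X ⧸ I) := IsNoetherianRing.of_finite R _
  let ε₀ : (X ⧸ I) →ₐ[R] R := ConnComp.counit0 hfε
  have hφ : π.comp (φ : C →ₐ[R] X) = (Algebra.ofId R (X ⧸ I)).comp (Bialgebra.counitAlgHom R C) := by
    refine Algebra.FormallyUnramified.ext_of_iInf (I := IsLocalRing.maximalIdeal (X ⧸ I))
      (Ideal.iInf_pow_eq_bot_of_isLocalRing _ (IsLocalRing.maximalIdeal.isMaximal _).ne_top) fun x => ?_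
    rw [Ideal.Quotient.eq]
    refine (IsLocalRing.eq_maximalIdeal (ConnComp.ker_residue_comp_isMaximal ε₀)).le ?_
    show IsLocalRing.residue R (ε₀ (π (φ x) - algebraMap R _ (Coalgebra.counit (R := R) x))) = 0
    rw [map_sub, ε₀.commutes]
    show IsLocalRing.residue R (Coalgebra.counit (R := R) (φ x) - _) = 0
    rw [CoalgHomClass.counit_comp_apply, Algebra.algebraMap_self, RingHom.id_apply, sub_self, map_zero]
  have hval : ∀ x : C, f * φ x = Coalgebra.counit (R := R) x • f := fun x => by
    have h := AlgHom.congr_fun hφ x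
    have h' : Ideal.Quotient.mk I (φ x) = Ideal.Quotient.mk I (algebraMap R X (Coalgebra.counit (R := R) x)) := h
    obtain ⟨r, hr⟩ := Ideal.mem_span_singleton'.1 (Ideal.Quotient.eq.1 h')
    have h0 : f * (φ x - algebraMap R X (Coalgebra.counit (R := R) x)) = 0 := by
      rw [← hr, mul_left_comm, mul_sub, mul_one, hf.eq, sub_self, mul_zero]
    rw [mul_sub, sub_eq_zero] at h0
    rw [h0, Algebra.smul_def, mul_comm]
  show LinearMap.lTensor X (LinearMap.mulLeft R f) (Coalgebra.comul (R := R) (φ c)) = φ c ⊗ₜ[R] f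
  rw [← CoalgHomClass.map_comp_comul_apply φ c]
  have key : ∀ z : C ⊗[R] C, LinearMap.lTensor X (LinearMap.mulLeft R f)
      (TensorProduct.map (φ : C →ₗ[R] X) (φ : C →ₗ[R] X) z) =
      φ (TensorProduct.rid R C ((Coalgebra.counit (R := R) (A := C)).lTensor C z)) ⊗ₜ[R] f := by
    intro z
    induction z using TensorProduct.induction_on with
    | zero => simp
    | tmul a b =>
      show φ a ⊗ₜ[R] (f * φ b) = φ (Coalgebra.counit (R := R) b • a) ⊗ₜ[R] f
      rw [hval, map_smul, TensorProduct.tmul_smul, TensorProduct.smul_tmul']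
    | add a b ha hb => simp only [map_add, ha, hb, TensorProduct.add_tmul]
  exact (key _).trans (by rw [Coalgebra.lTensor_counit_comul, TensorProduct.rid_tmul, one_smul])

end

end Groth.Agent.H20Hopf.MuPart
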